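import Mathlib

/-! Helper19: if `N^n ≅ R^n` for an invertible module `N`, then `N^{⊗ n} ≅ R`. -/

namespace Groth.Agent.Helper19.PicDet

open TensorProduct CommRing

universe u v

variable {R : Type u} [CommRing R] (N : Type v) [AddCommGroup N] [Module R N]
  [Module.Invertible R N]

instance tpow_invertible (n : ℕ) : Module.Invertible R (⨂[R]^n N) := by
  induction n with
  | zero =>
    exact Module.Invertible.congr
      (PiTensorProduct.isEmptyEquiv (R := R) (s := fun _ : Fin 0 => N) (Fin 0)).symm
  | succ k ih =>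
    haveI := ih
    haveI : Module.Invertible R (⨂[R]^1 N) :=
      Module.Invertible.congr (PiTensorProduct.subsingletonEquiv (R := R)
        (s := fun _ : Fin 1 => N) (0 : Fin 1)).symm
    exact Module.Invertible.congr (TensorPower.mulEquiv (R := R) (M := N) (n := k) (m := 1))

theorem mk_tpow (n : ℕ) : Pic.mk R (⨂[R]^n N) = Pic.mk R N ^ n := by
  induction n with
  | zero =>
    rw [pow_zero, Pic.mk_eq_one_iff]
    exact ⟨PiTensorProduct.isEmptyEquiv (R := R) (s := fun _ : Fin 0 => N) (Fin 0)⟩
  | succ k ih =>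
    rw [pow_succ, ← ih]
    have h1 : Pic.mk R (⨂[R]^1 N) = Pic.mk R N :=
      Pic.mk_eq_mk_iff.mpr ⟨PiTensorProduct.subsingletonEquiv (R := R)
        (s := fun _ : Fin 1 => N) (0 : Fin 1)⟩
    rw [← h1, ← Pic.mk_tensor]
    exact Pic.mk_eq_mk_iff.mpr ⟨(TensorPower.mulEquiv (R := R) (M := N) (n := k) (m := 1)).symm⟩

variable {N}

theorem exists_notMem_smul_top {I : Ideal R} (hI : I ≠ ⊤) :
    ∃ x : N, x ∉ I • (⊤ : Submodule R N) := by
  by_contra h
  push Not at h
  obtain ⟨t, ht⟩ := (Module.Invertible.bijective (R := R) (M := N)).surjective 1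
  have key : ∀ t, contractLeft R N t ∈ I := by
    intro t
    induction t using TensorProduct.induction_on with
    | zero => simp
    | tmul f x =>
      rw [contractLeft_apply]
      have hx := h x
      refine Submodule.smul_induction_on hx ?_ ?_
      · intro r hr n _
        rw [map_smul]
        exact I.mul_mem_right _ hr
      · intro a b ha hb
        rw [map_add]
        exact I.add_mem ha hb
    | add a b ha hb =>
      rw [map_add]
      exact I.add_mem ha hb
  exact hI ((Ideal.eq_top_iff_one I).mpr (ht ▸ key t))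

variable {n : ℕ} (e : (Fin n → N) ≃ₗ[R] (Fin n → R))

/-- The multilinear "determinant" map. -/
noncomputable def Dmulti : MultilinearMap R (fun _ : Fin n => N) R :=
  (Matrix.detRowAlternating (R := R) (n := Fin n)).toMultilinearMap.compLinearMap
    (fun i => e.toLinearMap ∘ₗ LinearMap.single R (fun _ : Fin n => N) i)

/-- The induced linear map on the tensor power. -/
noncomputable def D : (⨂[R]^n N) →ₗ[R] R := PiTensorProduct.lift (Dmulti e)

theorem D_tprod (x : Fin n → N) :
    D e (PiTensorProduct.tprod R x) =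
      Matrix.det (Matrix.of fun i j => e (Pi.single i (x i)) j) := by
  rw [D, PiTensorProduct.lift.tprod, Dmulti, MultilinearMap.compLinearMap_apply]
  rfl

theorem mem_smul_top_of_apply_mem {I : Ideal R} (y : Fin n → N) (hy : ∀ j, e y j ∈ I) (i : Fin n) :
    y i ∈ I • (⊤ : Submodule R N) := by
  classical
  have h1 : y = ∑ j, (e y j) • e.symm (Pi.single j 1) := by
    apply e.injective
    rw [map_sum]
    simp_rw [map_smul, LinearEquiv.apply_symm_apply]
    ext k
    simp [Finset.sum_apply, Pi.single_apply]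
  rw [h1, Finset.sum_apply]
  refine Submodule.sum_mem _ fun j _ => ?_
  rw [Pi.smul_apply]
  exact Submodule.smul_mem_smul (hy j) trivial

open Matrix in
theorem D_surjective : Function.Surjective (D e) := by
  classical
  by_contra hns
  have hJ : LinearMap.range (D e) ≠ ⊤ := fun h => hns (LinearMap.range_eq_top.mp h)
  obtain ⟨𝔪, h𝔪, hle⟩ := Ideal.exists_le_maximal (LinearMap.range (D e)) hJ
  obtain ⟨x₀, hx₀⟩ := exists_notMem_smul_top (N := N) h𝔪.ne_top
  obtain ⟨A, hA⟩ : ∃ A : Matrix (Fin n) (Fin n) R,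
      A = Matrix.of fun i j => e (Pi.single i x₀) j := ⟨_, rfl⟩
  have hdet : A.det ∈ 𝔪 := by
    apply hle
    refine ⟨PiTensorProduct.tprod R (fun _ => x₀), ?_⟩
    rw [D_tprod, hA]
  letI : Field (R ⧸ 𝔪) := Ideal.Quotient.field 𝔪
  have hdet' : (A.map (Ideal.Quotient.mk 𝔪)).det = 0 := by
    rw [← RingHom.mapMatrix_apply, ← RingHom.map_det, Ideal.Quotient.eq_zero_iff_mem]
    exact hdet
  obtain ⟨v, hv0, hv⟩ := Matrix.exists_vecMul_eq_zero_iff.mpr hdet'
  choose c hc using fun i => Ideal.Quotient.mk_surjective (v i)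
  have hy : ∀ j, e (fun i => c i • x₀) j ∈ 𝔪 := by
    intro j
    have h2 : (fun i => c i • x₀) = ∑ i, c i • Pi.single (M := fun _ : Fin n => N) i x₀ := by
      ext k
      simp [Finset.sum_apply, Pi.single_apply]
    rw [h2, map_sum, Finset.sum_apply]
    simp_rw [map_smul, Pi.smul_apply, smul_eq_mul]
    rw [← Ideal.Quotient.eq_zero_iff_mem, map_sum]
    have h3 := congrFun hv j
    rw [Matrix.vecMul, dotProduct] at h3
    simp only [Matrix.map_apply, Pi.zero_apply] at h3
    rw [← h3]
    refine Finset.sum_congr rfl fun i _ => ?_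
    rw [map_mul, hc, hA]
    rfl
  have hmem := mem_smul_top_of_apply_mem e (fun i => c i • x₀) hy
  obtain ⟨i, hi⟩ : ∃ i, v i ≠ 0 := by
    by_contra hcon
    push Not at hcon
    exact hv0 (funext hcon)
  have hci : c i ∉ 𝔪 := by
    rw [← Ideal.Quotient.eq_zero_iff_mem, hc]
    exact hi
  obtain ⟨a, m, hm, ham⟩ : ∃ a m, m ∈ 𝔪 ∧ a * c i + m = 1 := by
    exact h𝔪.exists_inv hci
  apply hx₀
  have : x₀ = a • (c i • x₀) + m • x₀ := by
    rw [smul_smul, ← add_smul, ham, one_smul]
  rw [this]
  exact Submodule.add_mem _ (Submodule.smul_mem _ _ (hmem i))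
    (Submodule.smul_mem_smul hm trivial)

theorem D_bijective : Function.Bijective (D e) :=
  Module.Invertible.bijective_of_surjective (D_surjective e)

include e in
theorem mk_pow_eq_one : Pic.mk R N ^ n = 1 := by
  rw [← mk_tpow, Pic.mk_eq_one_iff]
  exact ⟨LinearEquiv.ofBijective (D e) (D_bijective e)⟩

end Groth.Agent.Helper19.PicDet
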